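import Groth.Agent.CurveH0Lib.ProjStable
import Groth.Agent.AVAmpleLib.Degree
import Groth.Agent.DegPullLib.Rank
import Groth.Agent.CohCmpLib.PuSec
import Groth.Agent.S7640
import Groth.Agent.S12912

/-!
# Linear systems pulled back along covers of curves
-/

set_option autoImplicit false
set_option linter.style.haveILetI false
set_option linter.unusedSectionVars false
universe u

open CategoryTheory CategoryTheory.Limits AlgebraicGeometry TopologicalSpace Opposite
open FunFld CurveDualLib

noncomputable section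

namespace CurveCoverLib

attribute [local instance] algFF

variable {k : Type u} [Field k]

section Cover

variable {X Y : Scheme.{u}} [X.Over (Spec (CommRingCat.of k))] [Y.Over (Spec (CommRingCat.of k))] [IsIntegral X]
  [IsIntegral Y] [IsProper (X ↘ Spec (CommRingCat.of k))] [IsProper (Y ↘ Spec (CommRingCat.of k))]
  (hX : topologicalKrullDim X = 1) (hY : topologicalKrullDim Y = 1) (π : X ⟶ Y) [IsFinite π] [Flat π]

include k hX hY in
/-- A finite morphism of curves is dominant. -/
theorem gen_to_gen : π (genericPoint X) = genericPoint Y := by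
  by_contra hne
  have hy : IsClosed ({π (genericPoint X)} : Set Y) :=
    CurveDualLib.isClosed_of_ne_generic (k := k) hY hne
  have hall : ∀ z : X, π z = π (genericPoint X) := fun z => Set.mem_singleton_iff.mp
    ((((genericPoint_spec X).specializes trivial).map π.continuous).mem_closed hy (Set.mem_singleton _))
  haveI : DiscreteTopology X := by
    refine isDiscrete_univ_iff.mp ?_
    rw [show (Set.univ : Set X) = π ⁻¹' {π (genericPoint X)} from (Set.eq_univ_of_forall fun z => hall z).symm]
    exact π.isDiscrete_preimage_singleton _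
  haveI : Subsingleton X := ⟨fun a b =>
    (((genericPoint_spec X).specializes (trivial : a ∈ Set.univ)).eq).symm.trans
      ((genericPoint_spec X).specializes (trivial : b ∈ Set.univ)).eq⟩
  have h0 := topologicalKrullDim_zero_of_discreteTopology X
  rw [hX] at h0
  exact absurd h0 (by simp)

include k hX hY in
/-- The degree of a finite flat cover. -/
theorem residueDegree_eq_finrank :
    π.residueDegree (genericPoint X) = Scheme.Hom.finrank π (genericPoint Y) := by
  haveI := CurvLib.isNoetherian k (X := X)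
  haveI := CurvLib.isNoetherian k (X := Y)
  have hgen := gen_to_gen (k := k) hX hY π
  have hfib : ∀ z, π z = π (genericPoint X) → z = genericPoint X := fun z hz => by
    by_contra hne
    have h1 := π.isClosedMap _ (CurveDualLib.isClosed_of_ne_generic (k := k) hX hne)
    rw [Set.image_singleton, hz, hgen] at h1
    have hall : ∀ c : Y, c = genericPoint Y := fun c =>
      Set.mem_singleton_iff.mp (((genericPoint_spec _).specializes trivial).mem_closed h1 (Set.mem_singleton _))
    haveI : Subsingleton Y := ⟨fun a b => (hall a).trans (hall b).symm⟩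
    have h0 := topologicalKrullDim_zero_of_discreteTopology Y
    rw [hY] at h0
    exact absurd h0 (by simp)
  rw [← AVAmpleLib.genRank_push_structure π, CurvLib.genRank]
  exact (DegPullLib.finrank_stalk_push π π.isClosedMap CurvLib.isInvertible_structureModule hfib _ hgen rfl).symm

include k hX hY in
/-- Degrees multiply along a cover. -/
theorem deg_pullback (hπ : π ≫ (Y ↘ Spec (CommRingCat.of k)) = X ↘ Spec (CommRingCat.of k)) {a : ℕ}
    (ha : ∀ y : Y, Scheme.Hom.finrank π y = a) {M : Y.Modules} (hM : PicF.IsInvertible M) :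
    Curv2.deg k X ((Scheme.Modules.pullback π).obj M) 1 = (a : ℤ) * Curv2.deg k Y M 1 := by
  rw [Groth.Agent.S7640.result k X Y hX hY π hπ (gen_to_gen (k := k) hX hY π) 1 M (CurvLib.locFree_of_isInvertible hM),
    residueDegree_eq_finrank (k := k) hX hY π, ha]

end Cover

section Sections

variable {X : Scheme.{u}} [X.Over (Spec (CommRingCat.of k))] [IsIntegral X] [IsProper (X ↘ Spec (CommRingCat.of k))]

/-- A nondegenerate map has at least as many sections as coordinates. -/
theorem le_h0_of_nondegenerate {r : ℕ} (i : X ⟶ CohB1.ProjSpace r k)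
    (hi : i ≫ CohB1.ProjSpace.toSpec r k = X ↘ Spec (CommRingCat.of k))
    (hplane : ∀ s : LinSer.Sect (CohB1.ProjSpace r k) (Twist.twistProjSpace r k 1), s ≠ 0 →
      OmegaSh.pullSect i (Twist.twistProjSpace r k 1) ⊤ s ≠ 0) :
    r + 1 ≤ Module.finrank k (Coh.HH X ((Scheme.Modules.pullback i).obj (Twist.twistProjSpace r k 1)) 0) := by
  classical
  haveI := CurvLib.isNoetherian k (X := X)
  let P := CohB1.ProjSpace r k
  let 𝒜 := CohB1.polyGrading r k
  let O1 := Twist.twistProjSpace r k 1
  let L := (Scheme.Modules.pullback i).obj O1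
  have hL : PicF.IsInvertible L := TwistLib.coord_isInvertible r k i
  letI := GenusZeroLib.kmod k L
  haveI := CurvLib.finite_HH (k := k) (CurvLib.isCoh_of_isInvertible hL) 0
  haveI : Module.Finite k Γ(L, ⊤) := Module.Finite.equiv (GenusZeroLib.e0k k L)
  let g : 𝒜 1 → Γ(O1, ⊤) := fun a => Twist.globalOf 𝒜 a
  let v : Fin (r + 1) → Γ(L, ⊤) := fun j =>
    KFlatLib.puSec i (g ⟨MvPolynomial.X j, ProjSecLib.X_mem j⟩)
  have hadd : ∀ a b, g (a + b) = g a + g b := fun a b => TwistLib.sec_ext fun x => by
    show Localization.mk ((a : MvPolynomial (Fin (r + 1)) k) + b) _ = Localization.mk _ _ + Localization.mk _ _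
    rw [Localization.add_mk_self]
  let gh : 𝒜 1 →+ Γ(O1, ⊤) := AddMonoidHom.mk' g hadd
  have hsm : ∀ (c : k) (a : 𝒜 1), (show Γ(L, ⊤) from KFlatLib.puSec i (g (c • a))) =
      GenusZeroLib.ρ k (X := X) c • (show Γ(L, ⊤) from KFlatLib.puSec i (g a)) := fun c a => by
    have h1 : g (c • a) = (show Γ(P, ⊤) from Coh.toGlobal (CohB1.ProjSpace.toSpec r k) c) • g a :=
      ProjSecLib.globalOf_smul c a
    refine (congrArg (KFlatLib.puSec i) h1).trans ?_
    refine (TwistLib.puSec_smul i _ _).trans
      (congrArg (fun z : Γ(X, ⊤) => z • (show Γ(L, ⊤) from KFlatLib.puSec i (g a))) ?_)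
    rw [GenusZeroLib.ρ, ← hi]
    rfl
  have hv : LinearIndependent k v := by
    rw [Fintype.linearIndependent_iff]
    intro c hc
    let pu : Γ(O1, ⊤) →+ Γ(L, ⊤) := (OmegaSh.pullSect i O1 ⊤).hom
    let a : 𝒜 1 := ∑ j, c j • ⟨MvPolynomial.X j, ProjSecLib.X_mem j⟩
    have h1 : pu (gh a) = 0 := by
      rw [map_sum, map_sum, ← hc]
      exact Finset.sum_congr rfl fun j _ => hsm (c j) _
    have h2 : gh a = 0 := by
      by_contra hne
      exact hplane (gh a) hne h1
    have h3 : a = 0 := ProjSecLib.globalOf_injective (h2.trans (map_zero gh).symm)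
    intro j
    have h4 := congrArg (fun t : 𝒜 1 => MvPolynomial.coeff (Finsupp.single j 1) (t : MvPolynomial (Fin (r + 1)) k)) h3
    simpa [a, MvPolynomial.coeff_sum, MvPolynomial.coeff_X, Finsupp.single_eq_single_iff] using h4
  have hle := hv.fintype_card_le_finrank
  rwa [Fintype.card_fin, ← (GenusZeroLib.e0k k L).finrank_eq] at hle

omit [X.Over (Spec (CommRingCat.of k))] [IsIntegral X] [IsProper (X ↘ Spec (CommRingCat.of k))] in
/-- Nondegeneracy descends along a map. -/
theorem nondegenerate_of_comp {r : ℕ} {Y : Scheme.{u}} (π : X ⟶ Y) (g : Y ⟶ CohB1.ProjSpace r k)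
    (h : ∀ s : LinSer.Sect (CohB1.ProjSpace r k) (Twist.twistProjSpace r k 1), s ≠ 0 →
      OmegaSh.pullSect (π ≫ g) (Twist.twistProjSpace r k 1) ⊤ s ≠ 0) :
    ∀ s : LinSer.Sect (CohB1.ProjSpace r k) (Twist.twistProjSpace r k 1), s ≠ 0 →
      OmegaSh.pullSect g (Twist.twistProjSpace r k 1) ⊤ s ≠ 0 := by
  intro s hs h0
  refine h s hs ?_
  let t : Γ(Twist.twistProjSpace r k 1, ⊤) := s
  show KFlatLib.puSec (π ≫ g) t = 0
  have h0' : KFlatLib.puSec g t = 0 := h0
  refine (CohCmpLib.pullbackComp_puSec π g _ t).symm.trans ?_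
  rw [h0']
  exact (congrArg _ (map_zero _)).trans (map_zero _)

end Sections

section Bound

variable [IsAlgClosed k] {X : Scheme.{u}} [X.Over (Spec (CommRingCat.of k))] [IsIntegral X]
  [IsProper (X ↘ Spec (CommRingCat.of k))] [Smooth (X ↘ Spec (CommRingCat.of k))]
  (hdim : topologicalKrullDim X = 1)

include hdim in
/-- Degree against dimension for a linear system, special or not. -/
theorem deg_bounds {M : X.Modules} (hM : PicF.IsInvertible M) {r : ℕ}
    (hr : r + 1 ≤ Module.finrank k (Coh.HH X M 0)) :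
    (r : ℤ) ≤ Curv2.deg k X M 1 ∧ ((r : ℤ) + Curv2.genus k X ≤ Curv2.deg k X M 1 ∨ 2 * (r : ℤ) ≤ Curv2.deg k X M 1) := by
  have h0 := RRVanLib.finrank_h0_structure (k := k) (X := X)
  obtain ⟨C, hCd, hC⟩ := CurveH0Lib.LinStable.exists_canonical_hasDiv (k := k) hdim
  obtain ⟨E, hE⟩ := ZetaCurveLib.exists_hasDiv (k := k) hdim hM
  rw [CurveH0Lib.LinStable.h0_eq_ell hdim hE] at hr
  rw [hE.deg hdim h0]
  obtain ⟨hrr, hcl⟩ := CurveH0Lib.LinStable.estimate hdim hC E (by omega)
  rcases (show ell (C - E) = 0 ∨ 1 ≤ ell (C - E) by omega) with h | h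
  · exact ⟨by omega, Or.inl (by omega)⟩
  · have := hcl h
    exact ⟨by omega, Or.inr (by omega)⟩

end Bound

end CurveCoverLib

end
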